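import Mathlib

/-!
# Element orders in linear groups over finite fields

* `pow_eq_one_of_semisimple`: a matrix of order prime to `p` is killed by every common multiple of
  the numbers `q ^ d - 1`, `d ≤ n`.
* `pow_pTimes`: the unipotent part of a matrix is killed by `p ^ T` as soon as `n ≤ p ^ T`.
* `exists_idempotent_or_scalar_pow`: a determinant one matrix of order prime to `p` has either a
  non-trivial idempotent polynomial in it, or its `singerM`-th power is scalar.
* `exists_order_singerM`, `exists_order_unipotent`, `singerGL`: elements realising these orders.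
-/

set_option autoImplicit false

open Polynomial Matrix

namespace CfsgLib.LinearOrders

section Poly

variable {F : Type*} [Field F]

/-- A monic polynomial all whose irreducible monic factors divide `Q` divides `Q ^ natDegree`. -/
theorem dvd_pow_natDegree (Q : F[X]) :
    ∀ (k : ℕ) (P : F[X]), P.Monic → P.natDegree = k →
      (∀ f : F[X], f.Monic → Irreducible f → f ∣ P → f ∣ Q) → P ∣ Q ^ k := by
  intro k
  induction k using Nat.strong_induction_on with
  | _ k ih =>
    intro P hP hk hfac
    rcases Nat.eq_zero_or_pos k with rfl | hkpos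
    · rw [pow_zero, hP.natDegree_eq_zero.mp hk]
    · obtain ⟨f, hfm, hfirr, hfP⟩ := Polynomial.exists_monic_irreducible_factor P
        (fun hu => hkpos.ne' (hk ▸ natDegree_eq_zero_of_isUnit hu))
      obtain ⟨R, rfl⟩ := hfP
      have hR : R.Monic := hfm.of_mul_monic_left hP
      have hdeg : f.natDegree + R.natDegree = k := by rw [← hfm.natDegree_mul hR, hk]
      have hfpos : 0 < f.natDegree := hfirr.natDegree_pos
      have h1 := ih R.natDegree (by omega) R hR rfl
        (fun g hg hgi hgR => hfac g hg hgi (hgR.trans (dvd_mul_left _ _)))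
      have h2 : f ∣ Q := hfac f hfm hfirr (dvd_mul_right _ _)
      calc f * R ∣ Q * Q ^ R.natDegree := mul_dvd_mul h2 h1
        _ = Q ^ (R.natDegree + 1) := by rw [pow_succ']
        _ ∣ Q ^ k := pow_dvd_pow _ (by omega)

end Poly

variable {F : Type*} [Field F] [Fintype F]

theorem card_adjoinRoot {f : F[X]} (hf : f ≠ 0) :
    Nat.card (AdjoinRoot f) = Fintype.card F ^ f.natDegree := by
  haveI : Module.Finite F (AdjoinRoot f) := (AdjoinRoot.powerBasis hf).finite
  rw [Module.natCard_eq_pow_finrank (K := F), (AdjoinRoot.powerBasis hf).finrank,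
    AdjoinRoot.powerBasis_dim, Nat.card_eq_fintype_card]

/-- An element of an extension field fixed by the `q`-th power map lies in the base field. -/
theorem exists_algebraMap_eq {K : Type*} [Field K] [Algebra F K] (y : K)
    (hy : y ^ Fintype.card F = y) : ∃ a : F, algebraMap F K a = y := by
  classical
  by_contra hc
  push Not at hc
  have h1 : 1 < Fintype.card F := Fintype.one_lt_card
  have hne : (X ^ Fintype.card F - X : K[X]) ≠ 0 := FiniteField.X_pow_card_sub_X_ne_zero K h1
  have hle := Polynomial.card_le_degree_of_subset_roots (p := (X ^ Fintype.card F - X : K[X]))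
    (Z := insert y (Finset.univ.image (algebraMap F K))) (by
      intro z hz
      rw [Finset.mem_val, Finset.mem_insert] at hz
      rw [mem_roots hne, IsRoot, eval_sub, eval_pow, eval_X, sub_eq_zero]
      rcases hz with rfl | hz
      · exact hy
      · obtain ⟨a, -, rfl⟩ := Finset.mem_image.mp hz
        rw [← map_pow, FiniteField.pow_card])
  rw [Finset.card_insert_of_notMem (by simpa using hc),
    Finset.card_image_of_injective _ (algebraMap F K).injective, Finset.card_univ,
    FiniteField.X_pow_card_sub_X_natDegree_eq K h1] at hle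
  omega

section Mat

variable {ι : Type*} [Fintype ι] [DecidableEq ι]

theorem dvd_minpoly_of_dvd_charpoly (A : Matrix ι ι F) {f : F[X]} (hfm : f.Monic)
    (hf : Irreducible f) (h : f ∣ A.charpoly) : f ∣ minpoly F A := by
  haveI : Fact (Irreducible f) := ⟨hf⟩
  set K := AdjoinRoot f
  rcases isEmpty_or_nonempty ι with hι | hι
  · rw [Matrix.charpoly_isEmpty] at h
    exact absurd (isUnit_of_dvd_one h) hf.not_isUnit
  let φ : Matrix ι ι F →ₐ[F] Matrix ι ι K := (Algebra.ofId F K).mapMatrix
  have hroot : (φ A).charpoly.IsRoot (AdjoinRoot.root f) := by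
    have : (φ A) = A.map (algebraMap F K) := rfl
    rw [this, Matrix.charpoly_map, IsRoot, eval_map]
    exact eval₂_eq_zero_of_dvd_of_eval₂_eq_zero _ _ h (AdjoinRoot.eval₂_root f)
  rw [← Matrix.mem_spectrum_iff_isRoot_charpoly] at hroot
  have hz : aeval (φ A) ((minpoly F A).map (algebraMap F K)) = 0 := by
    rw [aeval_map_algebraMap, aeval_algHom_apply, minpoly.aeval, map_zero]
  have hmem := spectrum.subset_polynomial_aeval (φ A) ((minpoly F A).map (algebraMap F K))
    ⟨_, hroot, rfl⟩
  rw [hz, spectrum.zero_eq, Set.mem_singleton_iff] at hmem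
  simp only [eval_map, ← aeval_def] at hmem
  rw [← AdjoinRoot.mk_eq_zero, ← AdjoinRoot.aeval_eq]
  exact hmem

theorem eq_pow_of_minpoly_irreducible (A : Matrix ι ι F) (hf : Irreducible (minpoly F A)) :
    ∃ m, A.charpoly = minpoly F A ^ m := by
  have hfm := minpoly.monic (Matrix.isIntegral A)
  have h := dvd_pow_natDegree (minpoly F A) _ A.charpoly (charpoly_monic A) rfl (fun g hgm hgi hg =>
    dvd_minpoly_of_dvd_charpoly A hgm hgi hg)
  obtain ⟨m, -, hm⟩ := (dvd_prime_pow hf.prime _).mp h
  exact ⟨m, eq_of_monic_of_associated (charpoly_monic A) (hfm.pow m) hm⟩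

theorem pow_card_eq_zero (A : Matrix ι ι F) {k : ℕ} (h : A ^ k = 0) : A ^ Fintype.card ι = 0 := by
  have h1 : minpoly F A ∣ X ^ k := minpoly.dvd F A (by simp [h])
  obtain ⟨i, -, hi⟩ := (dvd_prime_pow Polynomial.prime_X _).mp h1
  have hi' := eq_of_monic_of_associated (minpoly.monic (Matrix.isIntegral A))
    (monic_X_pow i) hi
  have hle : i ≤ Fintype.card ι := by
    have := natDegree_le_of_dvd (Matrix.minpoly_dvd_charpoly A) (charpoly_monic A).ne_zero
    rwa [hi', natDegree_X_pow, charpoly_natDegree_eq_dim] at this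
  have hz : A ^ i = 0 := by
    have := minpoly.aeval F A
    rwa [hi', map_pow, aeval_X] at this
  rw [← Nat.sub_add_cancel hle, pow_add, hz, mul_zero]

/-- The unipotent part is killed by `p ^ T` if `card ι ≤ p ^ T`. -/
theorem pow_pTimes [Nonempty ι] {p : ℕ} [Fact p.Prime] [CharP F p] (A : Matrix ι ι F) {a E T : ℕ}
    (hA : A ^ (p ^ a * E) = 1) (hT : Fintype.card ι ≤ p ^ T) : A ^ (p ^ T * E) = 1 := by
  have h0 : (A ^ E - 1) ^ (p ^ a) = 0 := by
    rw [sub_pow_char_pow_of_commute (p := p) (h := Commute.one_right _), ← pow_mul,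
      mul_comm E, hA, one_pow, sub_self]
  have h1 : (A ^ E - 1) ^ (p ^ T) = 0 := by
    rw [← Nat.sub_add_cancel hT, pow_add, pow_card_eq_zero _ h0, mul_zero]
  rw [sub_pow_char_pow_of_commute (p := p) (h := Commute.one_right _), one_pow, sub_eq_zero,
    ← pow_mul, mul_comm E] at h1
  exact h1

theorem squarefree_minpoly {p : ℕ} [Fact p.Prime] [CharP F p] (A : Matrix ι ι F) {E : ℕ}
    (hE : ¬ p ∣ E) (hA : A ^ E = 1) : Squarefree (minpoly F A) := by
  refine Squarefree.squarefree_of_dvd (minpoly.dvd F A (p := X ^ E - 1) (by simp [hA])) ?_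
  refine Polynomial.Separable.squarefree (X_pow_sub_one_separable_iff.mpr ?_)
  rwa [Ne, CharP.cast_eq_zero_iff F p]

theorem root_ne_zero_of_dvd {f : F[X]} [Fact (Irreducible f)] {E : ℕ} (hE : E ≠ 0)
    (h : f ∣ X ^ E - 1) : AdjoinRoot.root f ≠ 0 := by
  intro h0
  have := aeval_eq_zero_of_dvd_aeval_eq_zero h (x := AdjoinRoot.root f)
    (by rw [AdjoinRoot.aeval_eq, AdjoinRoot.mk_self])
  simp [h0, zero_pow hE] at this

/-- A matrix of order prime to `p` is killed by a common multiple of all `q ^ d - 1`. -/
theorem pow_eq_one_of_semisimple [Nonempty ι] {p : ℕ} [Fact p.Prime] [CharP F p] (A : Matrix ι ι F) {E P : ℕ}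
    (hE : ¬ p ∣ E) (hA : A ^ E = 1)
    (hP : ∀ d, 1 ≤ d → d ≤ Fintype.card ι → (Fintype.card F ^ d - 1) ∣ P) : A ^ P = 1 := by
  have hdvd : minpoly F A ∣ X ^ P - 1 := by
    refine ((squarefree_minpoly A hE hA).dvd_pow_iff_dvd (n := (minpoly F A).natDegree) ?_).mp ?_
    · exact (minpoly.natDegree_pos (Matrix.isIntegral A)).ne'
    refine dvd_pow_natDegree _ _ _ (minpoly.monic (Matrix.isIntegral A)) rfl (fun f hfm hf hdvd => ?_)
    haveI : Fact (Irreducible f) := ⟨hf⟩
    have hroot := root_ne_zero_of_dvd (E := E) (by rintro rfl; exact hE (dvd_zero p))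
      (hdvd.trans (minpoly.dvd F A (p := X ^ E - 1) (by simp [hA])))
    have hd : f.natDegree ≤ Fintype.card ι := by
      refine (natDegree_le_of_dvd (hdvd.trans (Matrix.minpoly_dvd_charpoly A))
        (charpoly_monic A).ne_zero).trans ?_
      rw [charpoly_natDegree_eq_dim]
    haveI : Finite (AdjoinRoot f) := Nat.finite_of_card_ne_zero (by
      rw [card_adjoinRoot hf.ne_zero]; exact pow_ne_zero _ Fintype.card_ne_zero)
    haveI : Fintype (AdjoinRoot f) := Fintype.ofFinite _
    have h1 := FiniteField.pow_card_sub_one_eq_one (AdjoinRoot.root f) hroot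
    rw [← Nat.card_eq_fintype_card (α := AdjoinRoot f), card_adjoinRoot hf.ne_zero] at h1
    obtain ⟨c, hc⟩ := hP _ hf.natDegree_pos hd
    rw [← AdjoinRoot.mk_eq_zero]
    rw [map_sub, map_pow, AdjoinRoot.mk_X, map_one, hc, pow_mul, h1, one_pow, sub_self]
  have := aeval_eq_zero_of_dvd_aeval_eq_zero hdvd (minpoly.aeval F A)
  simpa [sub_eq_zero] using this

end Mat

/-- `(q^n - 1)/(q - 1)`. -/
def geomN (q n : ℕ) : ℕ := ∑ i ∈ Finset.range n, q ^ i

/-- The order of a Singer cycle in `PSL n q`. -/
def singerM (q n : ℕ) : ℕ := geomN q n / Nat.gcd (geomN q n) (q - 1)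

theorem geomN_dvd_singerM_mul (q n : ℕ) : geomN q n ∣ singerM q n * (q - 1) := by
  have h1 := Nat.gcd_dvd_left (geomN q n) (q - 1)
  conv_lhs => rw [← Nat.div_mul_cancel h1]
  exact mul_dvd_mul_left _ (Nat.gcd_dvd_right _ _)

variable (F)

/-- A determinant one matrix of order prime to `p` has a non-trivial idempotent polynomial in it
unless its `singerM`-th power is scalar. -/
theorem exists_idempotent_or_scalar_pow {n : ℕ} (hn : 1 ≤ n) {p : ℕ} [Fact p.Prime] [CharP F p]
    (A : Matrix (Fin n) (Fin n) F) {E : ℕ} (hE : ¬ p ∣ E) (hA : A ^ E = 1) (hdet : A.det = 1) :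
    (∃ P : F[X], IsIdempotentElem (aeval A P) ∧ aeval A P ≠ 0 ∧ aeval A P ≠ 1) ∨
      ∃ c : F, A ^ singerM (Fintype.card F) n = c • 1 := by
  haveI : Nonempty (Fin n) := ⟨⟨0, hn⟩⟩
  have hint := Matrix.isIntegral (R := F) A
  by_cases hirr : Irreducible (minpoly F A)
  · right
    obtain ⟨m, hm⟩ := eq_pow_of_minpoly_irreducible A hirr
    set f := minpoly F A with hf
    haveI : Fact (Irreducible f) := ⟨hirr⟩
    set d := f.natDegree with hd
    have hmd : m * d = n := by
      have := congrArg natDegree hm
      rw [charpoly_natDegree_eq_dim, natDegree_pow, Fintype.card_fin] at this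
      exact this.symm
    haveI : Finite (AdjoinRoot f) := Nat.finite_of_card_ne_zero (by
      rw [card_adjoinRoot hirr.ne_zero]; exact pow_ne_zero _ Fintype.card_ne_zero)
    set x := AdjoinRoot.root f
    set ν : F := (-1) ^ d * f.coeff 0
    set q := Fintype.card F with hq
    have hq1 : 1 < q := Fintype.one_lt_card
    have hx : x ≠ 0 := root_ne_zero_of_dvd (E := E) (by rintro rfl; exact hE (dvd_zero p))
      (minpoly.dvd F A (p := X ^ E - 1) (by simp [hA]))
    have hν : algebraMap F (AdjoinRoot f) ν = x ^ geomN q d := by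
      have h1 := Algebra.PowerBasis.norm_gen_eq_coeff_zero_minpoly (AdjoinRoot.powerBasis hirr.ne_zero)
      rw [AdjoinRoot.powerBasis_gen, AdjoinRoot.powerBasis_dim, AdjoinRoot.minpoly_root hirr.ne_zero,
        (minpoly.monic hint).leadingCoeff, inv_one, map_one, mul_one] at h1
      show algebraMap F (AdjoinRoot f) ((-1) ^ d * f.coeff 0) = _
      rw [← h1, FiniteField.algebraMap_norm_eq_pow, card_adjoinRoot hirr.ne_zero,
        Nat.card_eq_fintype_card, geomN, Nat.geomSum_eq hq1]
    have hνm : ν ^ m = 1 := by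
      have h1 := Matrix.det_eq_sign_charpoly_coeff A
      rw [hdet, Fintype.card_fin, hm, coeff_zero_eq_eval_zero, eval_pow, ← coeff_zero_eq_eval_zero,
        ← hmd, mul_comm m d, pow_mul, ← mul_pow] at h1
      exact h1.symm
    have hνq : ν ^ q = ν := FiniteField.pow_card ν
    have hxN : x ^ geomN q n = 1 := by
      have hgeom : ∀ j, x ^ geomN q (j * d) = algebraMap F (AdjoinRoot f) (ν ^ j) := by
        intro j
        induction j with
        | zero => simp [geomN]
        | succ j ih =>
          have hs : geomN q ((j + 1) * d) = geomN q (j * d) + geomN q d * q ^ (j * d) := by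
            rw [geomN, geomN, geomN, Nat.succ_mul, Finset.sum_range_add, Finset.sum_mul]
            congr 1
            exact Finset.sum_congr rfl fun i _ => by rw [pow_add, mul_comm]
          rw [hs, pow_add, pow_mul, ih, ← hν, ← map_pow, FiniteField.pow_card_pow, ← map_mul,
            ← pow_succ]
      rw [← hmd, hgeom, hνm, map_one]
    obtain ⟨c, hc⟩ := geomN_dvd_singerM_mul q n
    have hxM : (x ^ singerM q n) ^ (q - 1) = 1 := by
      rw [← pow_mul, hc, pow_mul, hxN, one_pow]
    obtain ⟨a, ha⟩ := exists_algebraMap_eq (x ^ singerM q n) (by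
      conv_lhs => rw [show Fintype.card F = q - 1 + 1 by omega, pow_succ, hxM, one_mul])
    refine ⟨a, ?_⟩
    have hdvd : f ∣ X ^ singerM q n - C a := by
      rw [← AdjoinRoot.mk_eq_zero, map_sub, map_pow, AdjoinRoot.mk_X, AdjoinRoot.mk_C,
        ← AdjoinRoot.algebraMap_eq, ha, sub_self]
    have := aeval_eq_zero_of_dvd_aeval_eq_zero hdvd (minpoly.aeval F A)
    rw [map_sub, map_pow, aeval_X, aeval_C, sub_eq_zero] at this
    rw [this, Algebra.algebraMap_eq_smul_one]
  · left
    have hnu : ¬ IsUnit (minpoly F A) := minpoly.not_isUnit F A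
    obtain ⟨f, hfi, h, hh⟩ := WfDvdMonoid.exists_irreducible_factor hnu (minpoly.ne_zero hint)
    have hhu : ¬ IsUnit h := fun hu => hirr (by
      rw [hh]; exact (irreducible_mul_isUnit hu).mpr hfi)
    have hsq := squarefree_minpoly A hE hA
    rw [hh] at hsq
    obtain ⟨a, b, hab⟩ : IsCoprime f h :=
      (squarefree_mul_iff.mp hsq).1.isCoprime
    refine ⟨a * f, ?_, ?_, ?_⟩
    · have hz : aeval A (a * f * (1 - a * f)) = 0 := by
        rw [show a * f * (1 - a * f) = f * h * (a * b) by linear_combination (a * f) * hab.symm,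
          ← hh, map_mul, minpoly.aeval, zero_mul]
      rw [map_mul, map_sub, map_one, mul_sub, mul_one, sub_eq_zero] at hz
      exact hz.symm
    · intro h0
      have h1 := minpoly.dvd F A h0
      rw [hh] at h1
      have h2 : h ∣ a * f := (dvd_mul_left h f).trans h1
      exact hhu (isUnit_of_dvd_one (hab ▸ dvd_add h2 (dvd_mul_left h b)))
    · intro h0
      have h1 : aeval A (b * h) = 0 := by
        rw [show b * h = 1 - a * f by linear_combination hab, map_sub, map_one, h0, sub_self]
      have h2 : f ∣ b * h := by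
        refine (dvd_mul_right f h).trans ?_
        rw [← hh]
        exact minpoly.dvd F A h1
      exact hfi.not_isUnit (isUnit_of_dvd_one (hab ▸ dvd_add (dvd_mul_left f a) h2))

/-- Multiplication by units of an extension field as invertible matrices. -/
noncomputable def singerGL {K : Type*} [Field K] [Algebra F K] {d : ℕ}
    (b : Module.Basis (Fin d) F K) : Kˣ →* GL (Fin d) F :=
  Units.map (Algebra.leftMulMatrix b).toRingHom.toMonoidHom

theorem singerGL_injective {K : Type*} [Field K] [Algebra F K] {d : ℕ}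
    (b : Module.Basis (Fin d) F K) : Function.Injective (singerGL F b) :=
  Units.map_injective (Algebra.leftMulMatrix_injective b)

variable {F}

/-- The shift matrix on the first `m` coordinates. -/
def shiftMat (F : Type*) [Field F] (n m : ℕ) : Matrix (Fin n) (Fin n) F :=
  Matrix.of fun i j => if j.val = i.val + 1 ∧ j.val < m then 1 else 0

omit [Fintype F] in
theorem shiftMat_pow (n m : ℕ) : ∀ k, 1 ≤ k → ∀ i j : Fin n,
    (shiftMat F n m ^ k) i j = if j.val = i.val + k ∧ j.val < m then 1 else 0 := by
  intro k hk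
  induction k, hk using Nat.le_induction with
  | base => intro i j; simp [shiftMat]
  | succ k hk ih =>
    intro i j
    rw [pow_succ, Matrix.mul_apply]
    by_cases hjk : j.val = i.val + k + 1 ∧ j.val < m
    · rw [Finset.sum_eq_single ⟨i.val + k, by omega⟩]
      · rw [ih, if_pos ⟨rfl, by simp only; omega⟩, if_pos (by omega)]
        simp [shiftMat, hjk.1, hjk.2, hjk.1 ▸ hjk.2]
      · intro l _ hl
        rw [ih, if_neg, zero_mul]
        exact fun h => hl (Fin.ext h.1)
      · simp
    · rw [if_neg (by omega)]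
      refine Finset.sum_eq_zero fun l _ => ?_
      rw [ih]
      split_ifs with h
      · simp only [shiftMat, Matrix.of_apply, one_mul]
        rw [if_neg]
        omega
      · rw [zero_mul]

omit [Fintype F] in
theorem one_add_shiftMat_pow {p : ℕ} [Fact p.Prime] [CharP F p] (n m j : ℕ) [Nonempty (Fin n)] :
    (1 + shiftMat F n m) ^ (p ^ j) = 1 + shiftMat F n m ^ (p ^ j) := by
  rw [add_pow_char_pow_of_commute (p := p) (h := Commute.one_left _), one_pow]

end CfsgLib.LinearOrders
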