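import Mathlib
import Cfsg.Agent.LinearOrders.Basic

/-!
# Element orders in `PSL n q`

`idempotent_or_orderOf_dvd`, `exists_lcm_prime`, `exists_singer`, `exists_unipotent`.
-/

set_option autoImplicit false

open Polynomial Matrix

namespace CfsgLib.LinearOrders

variable {F : Type*} [Field F] [Fintype F] {n : ℕ}

omit [Fintype F] in
theorem mk_pow_eq_one_iff (g : Matrix.SpecialLinearGroup (Fin n) F) (k : ℕ) [Nonempty (Fin n)] :
    (QuotientGroup.mk g : Matrix.ProjectiveSpecialLinearGroup (Fin n) F) ^ k = 1 ↔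
      ∃ c : F, (g : Matrix (Fin n) (Fin n) F) ^ k = c • 1 := by
  rw [← QuotientGroup.mk_pow, QuotientGroup.eq_one_iff, Matrix.SpecialLinearGroup.mem_center_iff]
  constructor
  · rintro ⟨c, -, hc⟩
    refine ⟨c, ?_⟩
    rw [← Matrix.SpecialLinearGroup.coe_pow, ← hc, smul_one_eq_diagonal]
    rfl
  · rintro ⟨c, hc⟩
    refine ⟨c, ?_, ?_⟩
    · have := congrArg det hc
      rw [det_pow, g.2, one_pow, det_smul, det_one, mul_one] at this
      exact this.symm
    · rw [Matrix.SpecialLinearGroup.coe_pow, hc, smul_one_eq_diagonal]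
      rfl

/-- Either a non-trivial idempotent commutes with `g`, or the order of its image in `PSL` divides
`p ^ T * singerM`. -/
theorem idempotent_or_orderOf_dvd (hn : 1 ≤ n) {p T : ℕ} [Fact p.Prime] [CharP F p]
    (hT : n ≤ p ^ T) (g : Matrix.SpecialLinearGroup (Fin n) F) :
    (∃ e : Matrix (Fin n) (Fin n) F, IsIdempotentElem e ∧ e ≠ 0 ∧ e ≠ 1 ∧ Commute e g) ∨
      orderOf (QuotientGroup.mk g : Matrix.ProjectiveSpecialLinearGroup (Fin n) F) ∣
        p ^ T * singerM (Fintype.card F) n := by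
  haveI : Nonempty (Fin n) := ⟨⟨0, hn⟩⟩
  obtain ⟨a, E, hE, ho⟩ :=
    Nat.exists_eq_pow_mul_and_not_dvd (orderOf_pos g).ne' p (Fact.out : p.Prime).ne_one
  have hg : (g : Matrix (Fin n) (Fin n) F) ^ (p ^ a * E) = 1 := by
    rw [← Matrix.SpecialLinearGroup.coe_pow, ← ho, pow_orderOf_eq_one, Matrix.SpecialLinearGroup.coe_one]
  have hsdet : ((g : Matrix (Fin n) (Fin n) F) ^ p ^ a).det = 1 := by
    rw [det_pow, g.2, one_pow]
  rcases exists_idempotent_or_scalar_pow F hn _ hE (by rw [← pow_mul]; exact hg) hsdet with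
    ⟨P, hP, hP0, hP1⟩ | ⟨c, hc⟩
  · left
    refine ⟨_, hP, hP0, hP1, ?_⟩
    have h : aeval ((g : Matrix (Fin n) (Fin n) F) ^ p ^ a) P =
        aeval (g : Matrix (Fin n) (Fin n) F) (P.comp (X ^ p ^ a)) := by
      rw [aeval_comp, map_pow, aeval_X]
    rw [h]
    conv_rhs => rw [← aeval_X (R := F) (g : Matrix (Fin n) (Fin n) F)]
    exact (Commute.all _ _).map (aeval (g : Matrix (Fin n) (Fin n) F))
  · right
    set o := orderOf (QuotientGroup.mk g : Matrix.ProjectiveSpecialLinearGroup (Fin n) F)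
    have h1 : o ∣ p ^ a * singerM (Fintype.card F) n := orderOf_dvd_of_pow_eq_one
      ((mk_pow_eq_one_iff g _).mpr ⟨c, by rw [pow_mul]; exact hc⟩)
    have h2 : o ∣ p ^ T * E := orderOf_dvd_of_pow_eq_one
      ((mk_pow_eq_one_iff g _).mpr ⟨1, by
        rw [one_smul]; exact pow_pTimes _ hg (by simpa using hT)⟩)
    refine (Nat.dvd_gcd h2 h1).trans ((Nat.gcd_mul_left_dvd_mul_gcd _ _ _).trans ?_)
    exact mul_dvd_mul (Nat.gcd_dvd_left _ _) ((Nat.Coprime.dvd_of_dvd_mul_left
      (Nat.Coprime.coprime_dvd_left (Nat.gcd_dvd_left _ _)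
        ((((Fact.out : p.Prime).coprime_iff_not_dvd).mpr hE).symm.pow_right a))
      (Nat.gcd_dvd_right _ _)))

/-- From an idempotent commuting with `g` one gets an element of order divisible by that of the
image of `g` and by `r`. -/
theorem exists_lcm_prime {r : ℕ} (hr : r.Prime) (hrq : r ∣ Fintype.card F - 1) (hrn : ¬ r ∣ n)
    (g : Matrix.SpecialLinearGroup (Fin n) F) {e : Matrix (Fin n) (Fin n) F} (he : IsIdempotentElem e)
    (he0 : e ≠ 0) (he1 : e ≠ 1) (hcomm : Commute e g) :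
    ∃ x : Matrix.ProjectiveSpecialLinearGroup (Fin n) F,
      orderOf (QuotientGroup.mk g : Matrix.ProjectiveSpecialLinearGroup (Fin n) F) ∣ orderOf x ∧
        r ∣ orderOf x := by
  classical
  haveI : Fact r.Prime := ⟨hr⟩
  haveI : Nonempty (Fin n) := by
    rcases Nat.eq_zero_or_pos n with rfl | h
    · exact absurd (dvd_zero r) hrn
    · exact ⟨⟨0, h⟩⟩
  obtain ⟨w, hw⟩ : ∃ w : Fˣ, orderOf w = r :=
    exists_prime_orderOf_dvd_card' (G := Fˣ) r
      (by rw [Nat.card_units, Nat.card_eq_fintype_card]; exact hrq)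
  set ω : F := (w : F)
  have hωr : ω ^ r = 1 := by
    rw [← Units.val_pow_eq_pow_val, ← hw, pow_orderOf_eq_one, Units.val_one]
  have hω1 : ω ≠ 1 := fun h => hr.ne_one (by
    rw [← hw, show w = 1 from Units.ext h, orderOf_one])
  -- the family of matrices `a • e + b • (1 - e)`
  let D : F → F → Matrix (Fin n) (Fin n) F := fun a b => a • e + b • (1 - e)
  have he' : (1 - e) * (1 - e) = 1 - e := he.one_sub
  have hee : e * (1 - e) = 0 := by rw [mul_sub, mul_one, he.eq, sub_self]
  have hee' : (1 - e) * e = 0 := by rw [sub_mul, one_mul, he.eq, sub_self]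
  have hD : ∀ a b a' b', D a b * D a' b' = D (a * a') (b * b') := by
    intro a b a' b'
    simp only [D, add_mul, mul_add, smul_mul_smul_comm, he.eq, he', hee, hee', smul_zero, add_zero,
      zero_add]
  have hD1 : D 1 1 = 1 := by simp [D]
  have hDpow : ∀ a b k, D a b ^ k = D (a ^ k) (b ^ k) := by
    intro a b k
    induction k with
    | zero => simp [hD1]
    | succ k ih => rw [pow_succ, ih, hD, ← pow_succ, ← pow_succ]
  set δ : F := (D ω 1).det
  have hδ : δ ^ r = 1 := by rw [← det_pow, hDpow, one_pow, hωr, hD1, det_one]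
  -- choose `μ` with `μ ^ n * δ = 1`
  obtain ⟨μ, hμr, hμ⟩ : ∃ μ : F, μ ^ r = 1 ∧ μ ^ n * δ = 1 := by
    obtain ⟨m, -, hm⟩ := Nat.exists_mul_mod_eq_one_of_coprime
      (((hr.coprime_iff_not_dvd).mpr hrn).symm) hr.one_lt
    refine ⟨δ ^ (m * (r - 1)), by rw [← pow_mul, mul_comm, pow_mul, hδ, one_pow], ?_⟩
    have h1 : δ ^ (n * m) = δ := by
      rw [← Nat.div_add_mod (n * m) r, hm, pow_add, pow_mul, hδ, one_pow, one_mul, pow_one]
    rw [← pow_mul, mul_comm (m * (r - 1)) n, ← mul_assoc, pow_mul, h1, ← pow_succ,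
      Nat.sub_add_cancel hr.one_le, hδ]
  let c : Matrix.SpecialLinearGroup (Fin n) F := ⟨μ • D ω 1, by
    rw [det_smul, Fintype.card_fin]; exact hμ⟩
  have hcr : (QuotientGroup.mk c : Matrix.ProjectiveSpecialLinearGroup (Fin n) F) ^ r = 1 := by
    rw [mk_pow_eq_one_iff]
    refine ⟨1, ?_⟩
    show (μ • D ω 1) ^ r = _
    rw [_root_.smul_pow, hμr, hDpow, hωr, one_pow, hD1]
  have hc1 : (QuotientGroup.mk c : Matrix.ProjectiveSpecialLinearGroup (Fin n) F) ≠ 1 := by
    intro h
    rw [← pow_one (QuotientGroup.mk c : Matrix.ProjectiveSpecialLinearGroup (Fin n) F),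
      mk_pow_eq_one_iff] at h
    obtain ⟨t, ht⟩ := h
    rw [pow_one] at ht
    change μ • D ω 1 = t • 1 at ht
    have hμ0 : μ ≠ 0 := fun h0 => by simp [h0, zero_pow hr.ne_zero] at hμr
    have h1 := congrArg (· * e) ht
    have h2 := congrArg (· * (1 - e)) ht
    simp only [D, add_mul, smul_mul_assoc, he.eq, he', hee, hee', smul_zero, add_zero, zero_add,
      one_mul, smul_smul, mul_one] at h1 h2
    have e1 : μ * ω = t := by
      by_contra hne
      exact he0 ((smul_eq_zero.mp (by rw [sub_smul, h1, sub_self] : (μ * ω - t) • e = 0)).resolve_left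
        (sub_ne_zero.mpr hne))
    have e2 : μ = t := by
      by_contra hne
      exact he1 (sub_eq_zero.mp ((smul_eq_zero.mp
        (by rw [sub_smul, h2, sub_self] : (μ - t) • (1 - e) = 0)).resolve_left
        (sub_ne_zero.mpr hne))).symm
    exact hω1 (mul_left_cancel₀ hμ0 (by rw [e1, mul_one, e2]))
  have hord := orderOf_eq_prime hcr hc1
  have hgc : Commute (g : Matrix.SpecialLinearGroup (Fin n) F) c := by
    apply Subtype.ext
    show (g : Matrix (Fin n) (Fin n) F) * (μ • D ω 1) = μ • D ω 1 * g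
    exact (((hcomm.symm.smul_right ω).add_right
      ((((Commute.one_right _).sub_right hcomm.symm)).smul_right (1 : F))).smul_right μ).eq
  obtain ⟨k, -, hk⟩ := (hgc.map (QuotientGroup.mk' (Subgroup.center (Matrix.SpecialLinearGroup (Fin n) F)))).exists_orderOf_eq_lcm
  refine ⟨_, hk ▸ Nat.dvd_lcm_left _ _, ?_⟩
  rw [hk]
  exact hord ▸ Nat.dvd_lcm_right _ _

/-- A Singer element. -/
theorem exists_singer (hn : 1 ≤ n) {p : ℕ} [Fact p.Prime] [CharP F p] :
    ∃ x : Matrix.ProjectiveSpecialLinearGroup (Fin n) F, singerM (Fintype.card F) n ∣ orderOf x := by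
  classical
  haveI : NeZero n := ⟨by omega⟩
  let K := FiniteField.Extension F p n
  haveI : Finite K := Module.finite_of_finite F
  set q := Fintype.card F with hq
  have hq1 : 1 < q := Fintype.one_lt_card
  have hcardK : Nat.card K = q ^ n := by
    rw [FiniteField.natCard_extension, Nat.card_eq_fintype_card]
  let b : Module.Basis (Fin n) F K :=
    Module.finBasisOfFinrankEq F K (FiniteField.finrank_extension F p n)
  obtain ⟨y, hy⟩ := IsCyclic.exists_ofOrder_eq_natCard (α := Kˣ)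
  rw [Nat.card_units, hcardK] at hy
  have hgeom : geomN q n * (q - 1) = q ^ n - 1 := by
    have h1 : 1 ≤ q ^ n := Nat.one_le_pow _ _ (by omega)
    zify [h1, (by omega : 1 ≤ q), geomN]
    exact geom_sum_mul (q : ℤ) n
  set z := y ^ (q - 1) with hz
  have hzord : orderOf z = geomN q n := by
    rw [hz, orderOf_pow' _ (by omega), hy, ← hgeom, Nat.gcd_mul_left_left,
      Nat.mul_div_cancel _ (by omega)]
  have hdet : ((singerGL F b z : GL (Fin n) F) : Matrix (Fin n) (Fin n) F).det = 1 := by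
    show (Algebra.leftMulMatrix b (z : K)).det = 1
    rw [← Algebra.norm_eq_matrix_det b, hz, Units.val_pow_eq_pow_val, map_pow]
    exact FiniteField.pow_card_sub_one_eq_one _
      ((Algebra.norm_ne_zero_iff).mpr y.ne_zero)
  let g : Matrix.SpecialLinearGroup (Fin n) F := ⟨_, hdet⟩
  refine ⟨QuotientGroup.mk g, ?_⟩
  set o := orderOf (QuotientGroup.mk g : Matrix.ProjectiveSpecialLinearGroup (Fin n) F)
  haveI : Nonempty (Fin n) := ⟨⟨0, hn⟩⟩
  obtain ⟨c, hc⟩ := (mk_pow_eq_one_iff g o).mp (pow_orderOf_eq_one _)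
  have hzc : (z : K) ^ o = algebraMap F K c := by
    apply Algebra.leftMulMatrix_injective b
    rw [map_pow, AlgHom.commutes, Algebra.algebraMap_eq_smul_one]
    exact hc
  have hz1 : z ^ (o * (q - 1)) = 1 := by
    apply Units.ext
    rw [Units.val_pow_eq_pow_val, pow_mul, hzc, ← map_pow, FiniteField.pow_card_sub_one_eq_one,
      map_one, Units.val_one]
    intro hc0
    rw [hc0, map_zero] at hzc
    exact pow_ne_zero _ z.ne_zero hzc
  have hdvd : geomN q n ∣ o * (q - 1) := hzord ▸ orderOf_dvd_of_pow_eq_one hz1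
  rw [singerM]
  set d := Nat.gcd (geomN q n) (q - 1) with hd
  have hdpos : 0 < d := Nat.gcd_pos_of_pos_right _ (by omega)
  have h3 : geomN q n / d ∣ o * ((q - 1) / d) := by
    rw [← Nat.mul_div_assoc _ (Nat.gcd_dvd_right _ _)]
    exact Nat.div_dvd_div (Nat.gcd_dvd_left _ _) hdvd
  exact (Nat.coprime_div_gcd_div_gcd hdpos).dvd_of_dvd_mul_right h3

/-- A unipotent element supported on the first `m` coordinates, of order divisible by `p ^ T`. -/
theorem exists_unipotent {p T m : ℕ} [Fact p.Prime] [CharP F p] (hm : m ≤ n) (hn : 1 ≤ n)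
    (hT : 1 ≤ T → p ^ (T - 1) < m) :
    ∃ u : Matrix.SpecialLinearGroup (Fin n) F, (u : Matrix (Fin n) (Fin n) F) = 1 + shiftMat F n m ∧
      p ^ T ∣ orderOf (QuotientGroup.mk u : Matrix.ProjectiveSpecialLinearGroup (Fin n) F) := by
  haveI : Nonempty (Fin n) := ⟨⟨0, hn⟩⟩
  have hdet : (1 + shiftMat F n m).det = 1 := by
    rw [det_of_upperTriangular]
    · refine Finset.prod_eq_one fun i _ => ?_
      simp [shiftMat]
    · intro i j hij
      have hne : i ≠ j := (ne_of_gt hij)
      simp only [Matrix.add_apply, one_apply_ne hne, shiftMat, of_apply, zero_add]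
      rw [if_neg]
      intro h
      have : (j : ℕ) < i := hij
      omega
  refine ⟨⟨_, hdet⟩, rfl, ?_⟩
  set o := orderOf (QuotientGroup.mk (⟨_, hdet⟩ : Matrix.SpecialLinearGroup (Fin n) F) :
    Matrix.ProjectiveSpecialLinearGroup (Fin n) F) with ho
  rcases Nat.eq_zero_or_pos T with rfl | hTpos
  · simp
  have hbig : (1 + shiftMat F n m) ^ p ^ n = 1 := by
    rw [one_add_shiftMat_pow]
    have hle : n ≤ p ^ n := (Nat.lt_pow_self (Fact.out : p.Prime).one_lt).le
    ext i j
    simp only [Matrix.add_apply, shiftMat_pow n m _ (Nat.one_le_pow _ _ (Fact.out : p.Prime).pos)]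
    rw [if_neg (by omega), add_zero]
  have hdvd : o ∣ p ^ n := orderOf_dvd_of_pow_eq_one
    ((mk_pow_eq_one_iff _ _).mpr ⟨1, by rw [one_smul]; exact hbig⟩)
  obtain ⟨i, -, hi⟩ := (Nat.dvd_prime_pow Fact.out).mp hdvd
  rw [hi]
  refine pow_dvd_pow _ ?_
  by_contra hlt
  obtain ⟨c, hc⟩ := (mk_pow_eq_one_iff (⟨_, hdet⟩ : Matrix.SpecialLinearGroup (Fin n) F) (p ^ (T - 1))).mp
    (orderOf_dvd_iff_pow_eq_one.mp (by rw [← ho, hi]; exact pow_dvd_pow _ (by omega)))
  change (1 + shiftMat F n m) ^ p ^ (T - 1) = c • 1 at hc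
  have hk := hT hTpos
  rw [one_add_shiftMat_pow] at hc
  have := congrFun (congrFun hc ⟨0, hn⟩) ⟨p ^ (T - 1), by omega⟩
  have hne : (⟨0, hn⟩ : Fin n) ≠ ⟨p ^ (T - 1), by omega⟩ := by
    simp only [ne_eq, Fin.mk.injEq]
    exact (Nat.pow_pos (Fact.out : p.Prime).pos).ne
  simp [shiftMat_pow n m _ (Nat.one_le_pow _ _ (Fact.out : p.Prime).pos), one_apply_ne hne, hk] at this

end CfsgLib.LinearOrders
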